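import Groth.Agent.S2111
import Mathlib

/-! Global functions along a bijective morphism onto a normal variety. -/

set_option autoImplicit false
set_option backward.isDefEq.respectTransparency false
set_option linter.style.haveILetI false

universe u

open CategoryTheory Limits AlgebraicGeometry TopologicalSpace Opposite

noncomputable section

namespace Groth.Agent.BijNormLib

theorem universallyInjective_of_injective {k : Type u} [Field k] [IsAlgClosed k] {X Y : Scheme.{u}}
    (f : X ⟶ Spec (CommRingCat.of k)) (π : Y ⟶ X) [IsSeparated (π ≫ f)] [LocallyOfFiniteType (π ≫ f)]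
    [LocallyOfFiniteType f] (hπ : Function.Injective π) : UniversallyInjective π := by
  haveI : IsSeparated π := IsSeparated.of_comp π f
  haveI : LocallyOfFiniteType π := locallyOfFiniteType_of_comp π f
  haveI : IsClosedImmersion (pullback.diagonal π) := inferInstance
  let g : pullback π π ⟶ Spec (CommRingCat.of k) := pullback.fst π π ≫ π ≫ f
  haveI : LocallyOfFiniteType g := inferInstance
  haveI : JacobsonSpace ↥(pullback π π) := LocallyOfFiniteType.jacobsonSpace g
  rw [UniversallyInjective.iff_diagonal]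
  refine ⟨fun z => ?_⟩
  have hcl : IsClosed (Set.range (pullback.diagonal π)) := (pullback.diagonal π).isClosedEmbedding.isClosed_range
  have hsub : closedPoints ↥(pullback π π) ⊆ Set.range (pullback.diagonal π) := by
    intro w hw
    let p := pointOfClosedPoint g w hw
    have h1 : (p ≫ pullback.fst π π) ≫ π ≫ f = 𝟙 _ := by
      rw [Category.assoc]; exact pointOfClosedPoint_comp g w hw
    have h2 : (p ≫ pullback.snd π π) ≫ π ≫ f = 𝟙 _ := by
      rw [Category.assoc, ← pullback.condition_assoc, ← Category.assoc]; exact h1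
    have he : p ≫ pullback.fst π π = p ≫ pullback.snd π π := by
      refine ext_of_apply_closedPoint_eq (π ≫ f) h1 h2 (hπ ?_)
      rw [← Scheme.Hom.comp_apply, ← Scheme.Hom.comp_apply, Category.assoc, Category.assoc, pullback.condition]
    refine ⟨(p ≫ pullback.fst π π) (IsLocalRing.closedPoint k), ?_⟩
    have e : (p ≫ pullback.fst π π) ≫ pullback.diagonal π = p := by
      apply pullback.hom_ext
      · simp
      · simp [he]
    rw [← Scheme.Hom.comp_apply, e, pointOfClosedPoint_apply]
  have := closure_minimal hsub hcl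
  rw [closure_closedPoints] at this
  exact this (Set.mem_univ z)

/-- An element of the function field, or its inverse, is defined at a height one prime. -/
theorem dichotomy {R : Type u} [CommRing R] [IsDomain R] [IsNoetherianRing R] [IsIntegrallyClosed R]
    {K : Type u} [Field K] [Algebra R K] [IsFractionRing R K] (g : K) (p : Ideal R) [p.IsPrime] (hp : p.height = 1) :
    (∃ a s : R, s ∉ p ∧ g * algebraMap R K s = algebraMap R K a) ∨
      ∃ a ∈ p, ∃ s : R, s ∉ p ∧ g * algebraMap R K a = algebraMap R K s := by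
  let Rp := Localization.AtPrime p
  haveI : IsNoetherianRing Rp := IsLocalization.isNoetherianRing p.primeCompl Rp inferInstance
  haveI : IsIntegrallyClosed Rp :=
    isIntegrallyClosed_of_isLocalization Rp p.primeCompl p.primeCompl_le_nonZeroDivisors
  haveI : Ring.DimensionLEOne Rp := ⟨fun {q} hq hqp => by
    by_contra hmax
    have hlt : q < IsLocalRing.maximalIdeal Rp := lt_of_le_of_ne (IsLocalRing.le_maximalIdeal hqp.ne_top)
      fun h => hmax (h ▸ IsLocalRing.maximalIdeal.isMaximal Rp)
    have h1 : q.height < (IsLocalRing.maximalIdeal Rp).height := Ideal.height_strict_mono_of_isPrime hlt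
    rw [IsLocalization.AtPrime.ringKrullDim_eq_height p Rp |> fun h => (show (IsLocalRing.maximalIdeal Rp).height = p.height by
      rw [← WithBot.coe_inj, IsLocalRing.maximalIdeal_height_eq_ringKrullDim]; exact h), hp] at h1
    exact hq (Ideal.height_eq_zero_iff_eq_bot.mp (ENat.lt_one_iff_eq_zero.mp h1))⟩
  haveI : IsDedekindDomain Rp := {}
  haveI : IsPrincipalIdealRing Rp := IsPrincipalIdealRing.of_finite_maximals (by
    refine (Set.finite_singleton (IsLocalRing.maximalIdeal Rp)).subset fun I hI => ?_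
    exact IsLocalRing.eq_maximalIdeal hI)
  haveI : ValuationRing Rp := ValuationRing.iff_local_bezout_domain.mpr ⟨inferInstance, inferInstance⟩
  obtain ⟨a, b, hb, hab⟩ := IsFractionRing.div_surjective (A := R) g
  have hb0 : algebraMap R K b ≠ 0 := IsFractionRing.to_map_ne_zero_of_mem_nonZeroDivisors hb
  have hga : g * algebraMap R K b = algebraMap R K a := by rw [← hab, div_mul_cancel₀ _ hb0]
  obtain ⟨c, hc⟩ := ValuationRing.cond (algebraMap R Rp a) (algebraMap R Rp b)
  obtain ⟨u, t, hut⟩ := IsLocalization.exists_mk'_eq p.primeCompl c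
  have hinj : Function.Injective (algebraMap R Rp) :=
    IsLocalization.injective Rp p.primeCompl_le_nonZeroDivisors
  rcases hc with hc | hc
  · have h1 : a * u = b * (t : R) := hinj (by
      rw [map_mul, map_mul, ← hc, ← IsLocalization.mk'_spec Rp u t, hut, mul_assoc])
    have h2 : g * algebraMap R K u = algebraMap R K t := mul_left_cancel₀ hb0 (by
      rw [← mul_assoc, mul_comm (algebraMap R K b) g, hga, ← map_mul, ← map_mul, h1])
    by_cases hu : u ∈ p
    · exact Or.inr ⟨u, hu, t, t.2, h2⟩
    · exact Or.inl ⟨t, u, hu, h2⟩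
  · have h1 : b * u = a * (t : R) := hinj (by
      rw [map_mul, map_mul, ← hc, ← IsLocalization.mk'_spec Rp u t, hut, mul_assoc])
    exact Or.inl ⟨u, t, t.2, mul_left_cancel₀ hb0 (by
      rw [← mul_assoc, mul_comm (algebraMap R K b) g, hga, ← map_mul, ← map_mul, h1])⟩

section Scheme

variable {X Y : Scheme.{u}} [IsIntegral X] [IsIntegral Y] (π : Y ⟶ X) [Surjective π]

theorem map_genericPoint : π (genericPoint Y) = genericPoint X := by
  have h := (genericPoint_spec Y).image π.continuous
  rw [Set.image_univ, (show Function.Surjective π from π.surjective).range_eq, closure_univ] at h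
  exact h.eq (genericPoint_spec X)

/-- The map of function fields. -/
def ffMap : X.functionField ⟶ Y.functionField :=
  X.presheaf.stalkSpecializes (Inseparable.of_eq (map_genericPoint π)).specializes ≫ π.stalkMap (genericPoint Y)

theorem ffMap_germ (U : X.Opens) (hU : genericPoint X ∈ U) (s : Γ(X, U)) :
    ffMap π (X.presheaf.germ U (genericPoint X) hU s) =
      Y.presheaf.germ (π ⁻¹ᵁ U) (genericPoint Y) (show π (genericPoint Y) ∈ U by rw [map_genericPoint]; exact hU)
        (π.app U s) := by
  rw [ffMap, ← ConcreteCategory.comp_apply, X.presheaf.germ_stalkSpecializes_assoc, Scheme.Hom.germ_stalkMap]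
  rfl

theorem mem_range_of_integral [UniversallyInjective π] (v : Y.functionField) :
    ∃ n : ℕ, ∃ g : X.functionField, 0 < n ∧ v ^ n = ffMap π g := by
  obtain ⟨-, hins⟩ := ((tfae_universallyInjective π).out 0 2).mp ‹UniversallyInjective π›
  have h := hins (genericPoint Y)
  algebraize [(π.residueFieldMap (genericPoint Y)).hom]
  haveI : IsPurelyInseparable (X.residueField (π (genericPoint Y))) (Y.residueField (genericPoint Y)) := h
  let q := ringExpChar (X.residueField (π (genericPoint Y)))
  obtain ⟨n, z, hz⟩ := IsPurelyInseparable.pow_mem (X.residueField (π (genericPoint Y))) q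
    ((Y.residue (genericPoint Y)).hom v)
  obtain ⟨z, rfl⟩ := X.residue_surjective (π (genericPoint Y)) z
  refine ⟨q ^ n, X.presheaf.stalkSpecializes (Inseparable.of_eq (map_genericPoint π).symm).specializes z,
    pow_pos (expChar_pos (X.residueField (π (genericPoint Y))) q) n, ?_⟩
  have e : ffMap π (X.presheaf.stalkSpecializes (Inseparable.of_eq (map_genericPoint π).symm).specializes z) =
      π.stalkMap (genericPoint Y) z := by
    rw [ffMap, ← ConcreteCategory.comp_apply, TopCat.Presheaf.stalkSpecializes_comp_assoc,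
      TopCat.Presheaf.stalkSpecializes_refl, Category.id_comp]
  rw [e]
  let res : Y.functionField →+* Y.residueField (genericPoint Y) := (Y.residue (genericPoint Y)).hom
  apply res.injective
  rw [map_pow]
  show (Y.residue (genericPoint Y)).hom v ^ q ^ n = (π.stalkMap (genericPoint Y) ≫ Y.residue (genericPoint Y)) z
  rw [← hz, ← Scheme.residue_residueFieldMap]
  rfl

variable [IsLocallyNoetherian X]

theorem exists_germ [Nonempty (⊤ : Y.Opens)] (hX : ∀ x : X, IsIntegrallyClosed ↑(X.presheaf.stalk x)) (f : Γ(Y, ⊤)) (n : ℕ)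
    (g : X.functionField) (hg : (Y.germToFunctionField ⊤ f) ^ n = ffMap π g) (x : X) :
    ∃ (U : X.Opens) (hU : x ∈ U) (_ : Nonempty U) (s : Γ(X, U)), X.germToFunctionField U s = g := by
  obtain ⟨U, hU, hxU, -⟩ := exists_isAffineOpen_mem_and_subset (U := ⊤) (x := x) (Opens.mem_top x)
  haveI : Nonempty U := ⟨⟨x, hxU⟩⟩
  refine ⟨U, hxU, inferInstance, ?_⟩
  let R := Γ(X, U)
  haveI : IsDomain R := inferInstance
  haveI : IsNoetherianRing R := IsLocallyNoetherian.component_noetherian ⟨U, hU⟩
  haveI := functionField_isFractionRing_of_isAffineOpen X U hU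
  have hmem : ∀ q : PrimeSpectrum R, hU.fromSpec q ∈ U := fun q => by
    rw [← SetLike.mem_coe, ← hU.range_fromSpec]; exact Set.mem_range_self q
  haveI : IsIntegrallyClosed R := IsIntegrallyClosed.of_localization_maximal fun q _ hqm => by
    letI := TopCat.Presheaf.algebra_section_stalk X.presheaf ⟨hU.fromSpec ⟨q, hqm.isPrime⟩, hmem _⟩
    haveI := hU.isLocalization_stalk' ⟨q, hqm.isPrime⟩ (hmem _)
    haveI := hX (hU.fromSpec ⟨q, hqm.isPrime⟩)
    exact IsIntegrallyClosed.of_equiv (IsLocalization.algEquiv q.primeCompl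
      (X.presheaf.stalk (hU.fromSpec ⟨q, hqm.isPrime⟩)) (Localization.AtPrime q)).toRingEquiv
  let e := FractionRing.algEquiv R X.functionField
  obtain ⟨s, hs⟩ := S2111.result (R := R) (e.symm g) fun p _ hp => by
    rcases dichotomy g p hp with ⟨a, s, hs, h⟩ | ⟨a, ha, s, hs, h⟩
    · refine ⟨IsLocalization.mk' _ a (⟨s, hs⟩ : p.primeCompl), ?_⟩
      have hs0 : algebraMap R (FractionRing R) s ≠ 0 :=
        IsFractionRing.to_map_ne_zero_of_mem_nonZeroDivisors (mem_nonZeroDivisors_of_ne_zero fun h0 => hs (h0 ▸ p.zero_mem))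
      refine mul_right_cancel₀ hs0 ?_
      rw [← e.symm.commutes s, ← map_mul, h, e.symm.commutes, e.symm.commutes,
        IsScalarTower.algebraMap_apply R (Localization.AtPrime p) (FractionRing R) s, ← map_mul,
        IsLocalization.mk'_spec]
      exact (IsScalarTower.algebraMap_apply R (Localization.AtPrime p) (FractionRing R) a).symm
    · exfalso
      let x' := hU.fromSpec ⟨p, inferInstance⟩
      obtain ⟨y', hy'⟩ := π.surjective x'
      have hyU : π y' ∈ U := by rw [hy']; exact hmem _
      have hyU' : y' ∈ π ⁻¹ᵁ U := hyU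
      have hη : genericPoint Y ∈ π ⁻¹ᵁ U :=
        ((genericPoint_spec Y).mem_open_set_iff (π ⁻¹ᵁ U).isOpen).mpr ⟨y', Set.mem_univ _, hyU'⟩
      have hnonunit : ∀ c : R, c ∈ p ↔ ¬ IsUnit (Y.presheaf.germ (π ⁻¹ᵁ U) y' hyU' (π.app U c)) := by
        intro c
        rw [← Scheme.mem_basicOpen, ← Scheme.preimage_basicOpen]
        show c ∈ p ↔ ¬ π y' ∈ X.basicOpen c
        rw [hy']
        show c ∈ p ↔ ¬ (⟨p, inferInstance⟩ : PrimeSpectrum R) ∈ hU.fromSpec ⁻¹ᵁ X.basicOpen c
        rw [hU.fromSpec_preimage_basicOpen]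
        exact not_not.symm
      have key : Y.presheaf.germ (π ⁻¹ᵁ U) y' hyU' (π.app U s) =
          (Y.presheaf.germ ⊤ y' (Opens.mem_top _) f) ^ n * Y.presheaf.germ (π ⁻¹ᵁ U) y' hyU' (π.app U a) := by
        haveI : Nonempty ↥((π ⁻¹ᵁ U).toScheme) := ⟨⟨y', hyU'⟩⟩
        apply IsFractionRing.injective (Y.presheaf.stalk y') Y.functionField
        rw [map_mul, map_pow, Scheme.algebraMap_germ_eq_germToFunctionField, Scheme.algebraMap_germ_eq_germToFunctionField,
          Scheme.algebraMap_germ_eq_germToFunctionField, hg]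
        show Y.presheaf.germ (π ⁻¹ᵁ U) _ hη _ = ffMap π g * Y.presheaf.germ (π ⁻¹ᵁ U) _ hη _
        have hξ : genericPoint X ∈ U := ((genericPoint_spec X).mem_open_set_iff U.isOpen).mpr ⟨x, Set.mem_univ _, hxU⟩
        rw [← ffMap_germ π U hξ s, ← ffMap_germ π U hξ a, ← map_mul]
        exact congrArg (ffMap π) h.symm
      refine (hnonunit a).mp ha (isUnit_of_mul_isUnit_right (x := (Y.presheaf.germ ⊤ y' (Opens.mem_top _) f) ^ n) ?_)
      rw [← key]
      exact not_not.mp fun h' => hs ((hnonunit s).mpr h')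
  refine ⟨s, ?_⟩
  have := congrArg e hs
  rwa [e.commutes, e.apply_symm_apply] at this

theorem exists_global (hX : ∀ x : X, IsIntegrallyClosed ↑(X.presheaf.stalk x)) [UniversallyInjective π]
    (f : Γ(Y, ⊤)) : ∃ n : ℕ, 0 < n ∧ f ^ n ∈ Set.range π.appTop := by
  haveI : Nonempty (⊤ : Y.Opens) := ⟨⟨genericPoint Y, Opens.mem_top _⟩⟩
  obtain ⟨n, g, hn, hg⟩ := mem_range_of_integral π (Y.germToFunctionField ⊤ f)
  choose U hxU hne s hs using exists_germ π hX f n g hg
  have hη : ∀ x, genericPoint X ∈ U x := fun x =>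
    ((genericPoint_spec X).mem_open_set_iff (U x).isOpen).mpr ⟨x, Set.mem_univ _, hxU x⟩
  have hc : TopCat.Presheaf.IsCompatible X.sheaf.1 U s := by
    intro x x'
    haveI : Nonempty ↥(U x ⊓ U x') := ⟨⟨genericPoint X, hη x, hη x'⟩⟩
    apply germ_injective_of_isIntegral X (genericPoint X) (show genericPoint X ∈ U x ⊓ U x' from ⟨hη x, hη x'⟩)
    refine ((X.presheaf.germ_res_apply (Opens.infLELeft (U x) (U x')) (genericPoint X) _ (s x)).trans ?_).trans
      (X.presheaf.germ_res_apply (Opens.infLERight (U x) (U x')) (genericPoint X) _ (s x')).symm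
    exact (hs x).trans (hs x').symm
  obtain ⟨t, ht, -⟩ := X.sheaf.existsUnique_gluing' U ⊤ (fun x => homOfLE le_top)
    (fun x _ => Opens.mem_iSup.mpr ⟨x, hxU x⟩) s hc
  refine ⟨n, hn, t, ?_⟩
  apply germ_injective_of_isIntegral Y (genericPoint Y) (Opens.mem_top _)
  rw [map_pow]
  show Y.presheaf.germ (π ⁻¹ᵁ ⊤) (genericPoint Y) trivial (π.app ⊤ t) = _
  rw [← ffMap_germ π ⊤ (Opens.mem_top _) t]
  refine Eq.trans (congrArg (ffMap π) ?_) hg.symm
  rw [← hs (genericPoint X), ← X.presheaf.germ_res_apply (homOfLE (le_top : U (genericPoint X) ≤ ⊤)) _ (hη _) t]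
  exact congrArg (X.presheaf.germ _ _ _) (ht (genericPoint X))

end Scheme

theorem finiteType_globalSections {k : Type u} [Field k] [IsAlgClosed k] {X Y : Scheme.{u}} [IsIntegral X] [IsIntegral Y]
    (f : X ⟶ Spec (CommRingCat.of k)) [LocallyOfFiniteType f] (π : Y ⟶ X) [IsSeparated (π ≫ f)]
    [LocallyOfFiniteType (π ≫ f)] (hπ : Function.Bijective π)
    (hX : ∀ x : X, IsIntegrallyClosed ↑(X.presheaf.stalk x))
    (hfg : ((Scheme.ΓSpecIso (CommRingCat.of k)).inv ≫ (π ≫ f).appTop).hom.FiniteType) :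
    ((Scheme.ΓSpecIso (CommRingCat.of k)).inv ≫ f.appTop).hom.FiniteType := by
  haveI : IsLocallyNoetherian X := LocallyOfFiniteType.isLocallyNoetherian f
  haveI : Surjective π := ⟨hπ.2⟩
  haveI := universallyInjective_of_injective f π hπ.1
  letI : Algebra k Γ(X, ⊤) := ((Scheme.ΓSpecIso (CommRingCat.of k)).inv ≫ f.appTop).hom.toAlgebra
  letI : Algebra k Γ(Y, ⊤) := ((Scheme.ΓSpecIso (CommRingCat.of k)).inv ≫ (π ≫ f).appTop).hom.toAlgebra
  letI : Algebra Γ(X, ⊤) Γ(Y, ⊤) := π.appTop.hom.toAlgebra
  haveI : IsScalarTower k Γ(X, ⊤) Γ(Y, ⊤) := IsScalarTower.of_algebraMap_eq' (by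
    show ((Scheme.ΓSpecIso (CommRingCat.of k)).inv ≫ (π ≫ f).appTop).hom = π.appTop.hom.comp _
    rw [Scheme.Hom.comp_appTop]
    rfl)
  haveI : Algebra.FiniteType k Γ(Y, ⊤) := hfg
  haveI : Algebra.IsIntegral Γ(X, ⊤) Γ(Y, ⊤) := ⟨fun a => by
    obtain ⟨n, hn, b, hb⟩ := exists_global π hX a
    refine IsIntegral.of_pow hn ?_
    rw [← hb]
    exact isIntegral_algebraMap⟩
  haveI : Algebra.FiniteType Γ(X, ⊤) Γ(Y, ⊤) := Algebra.FiniteType.of_restrictScalars_finiteType k _ _
  haveI : Module.Finite Γ(X, ⊤) Γ(Y, ⊤) := Algebra.IsIntegral.finite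
  have hinj : Function.Injective (algebraMap Γ(X, ⊤) Γ(Y, ⊤)) := by
    intro a b h
    apply germ_injective_of_isIntegral X (genericPoint X) (Opens.mem_top _)
    apply (ffMap π).hom.injective
    rw [ffMap_germ π, ffMap_germ π]
    exact congrArg (Y.presheaf.germ _ _ _) h
  exact ⟨fg_of_fg_of_fg k Γ(X, ⊤) Γ(Y, ⊤) Algebra.FiniteType.out Module.Finite.fg_top hinj⟩

end Groth.Agent.BijNormLib
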